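import Groth.Agent.Lib.Fitting.Local
import Mathlib.RingTheory.Grassmannian
import Mathlib.RingTheory.Spectrum.Prime.FreeLocus

/-!
# Column spans of matrices of bounded rank and their saturations
-/

set_option autoImplicit false
set_option linter.all false
universe u

namespace GrothLib.DetRank12

open Function Matrix

variable {A : Type u} [CommRing A] {e m : ℕ}

/-- The ideal of `r`-minors of a matrix. -/
def mins (S : Matrix (Fin e) (Fin m) A) (r : ℕ) : Ideal A :=
  Ideal.span {x | ∃ (ρ : Fin r → Fin e) (γ : Fin r → Fin m), x = (S.submatrix ρ γ).det}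

/-- The span of the columns. -/
def cols (S : Matrix (Fin e) (Fin m) A) : Submodule A (Fin e → A) :=
  Submodule.span A (Set.range fun k i => S i k)

theorem det_mem_mins (S : Matrix (Fin e) (Fin m) A) {r : ℕ} (ρ : Fin r → Fin e) (γ : Fin r → Fin m) :
    (S.submatrix ρ γ).det ∈ mins S r :=
  Ideal.subset_span ⟨ρ, γ, rfl⟩

theorem mins_transpose (S : Matrix (Fin e) (Fin m) A) (r : ℕ) : mins Sᵀ r = mins S r := by
  refine le_antisymm (Ideal.span_le.2 ?_) (Ideal.span_le.2 ?_) <;> rintro _ ⟨ρ, γ, rfl⟩
  · rw [← Matrix.det_transpose, Matrix.transpose_submatrix, Matrix.transpose_transpose]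
    exact det_mem_mins S γ ρ
  · rw [← Matrix.det_transpose, Matrix.transpose_submatrix]
    exact det_mem_mins Sᵀ γ ρ

theorem minors_cols (S : Matrix (Fin e) (Fin m) A) (r : ℕ) : GrothLib.Fitting.minors (cols S) r = mins S r := by
  refine le_antisymm (GrothLib.Fitting.minors_span_le _ _ _ fun z ρ hz => ?_) (Ideal.span_le.2 ?_)
  · choose γ hγ using hz
    exact Ideal.subset_span ⟨ρ, γ, by simp only [← hγ]; rfl⟩
  · rintro _ ⟨ρ, γ, rfl⟩
    exact GrothLib.Fitting.det_mem_minors (fun b i => S i (γ b)) ρ fun b => Submodule.subset_span ⟨γ b, rfl⟩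

section Bordered

variable {r : ℕ}

/-- The rows `ρ` of the columns `z` bordered by a column `x` and the row `i` with corner `a₀`. -/
def bordM (z : Fin r → Fin e → A) (x : Fin r → A) (ρ : Fin r → Fin e) (a₀ : A) (i : Fin e) :
    Matrix (Fin (r + 1)) (Fin (r + 1)) A :=
  Matrix.of (Fin.cons (Fin.cons a₀ fun b => z b i) fun a => Fin.cons (x a) fun b => z b (ρ a))

theorem bordM_det_eq_zero {N : Submodule A (Fin e → A)} (hN : GrothLib.Fitting.minors N (r + 1) = ⊥)
    {z : Fin r → Fin e → A} (hz : ∀ b, z b ∈ N) {v : Fin e → A} (hv : v ∈ N) (ρ : Fin r → Fin e) (i : Fin e) :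
    (bordM z (fun a => v (ρ a)) ρ (v i) i).det = 0 := by
  have h : bordM z (fun a => v (ρ a)) ρ (v i) i =
      Matrix.of fun a b => (Fin.cons v z : Fin (r + 1) → Fin e → A) b ((Fin.cons i ρ : Fin (r + 1) → Fin e) a) := by
    ext a b
    refine Fin.cases ?_ (fun a => ?_) a <;> refine Fin.cases ?_ (fun b => ?_) b <;> simp [bordM]
  rw [h, ← Ideal.mem_bot, ← hN]
  exact GrothLib.Fitting.det_mem_minors _ _ (Fin.cases (by simpa using hv) fun b => by simpa using hz b)

/-- Along the first row the bordered determinant is a combination of the corner and the columns. -/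
theorem exists_bord_row (z : Fin r → Fin e → A) (x : Fin r → A) (ρ : Fin r → Fin e) :
    ∃ C : Fin r → A, ∀ (a₀ : A) (i : Fin e),
      (bordM z x ρ a₀ i).det = a₀ * (Matrix.of fun a b => z b (ρ a)).det + (∑ b, C b • z b) i := by
  let K : Fin r → Matrix (Fin r) (Fin r) A := fun b => Matrix.of fun a c =>
    (Fin.cons (x a) (fun c => z c (ρ a)) : Fin (r + 1) → A) (b.succ.succAbove c)
  refine ⟨fun b => (-1) ^ (b.succ : ℕ) * (K b).det, fun a₀ i => ?_⟩
  rw [Matrix.det_succ_row_zero, Fin.sum_univ_succ, Finset.sum_apply]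
  congr 1
  · have h0 : (bordM z x ρ a₀ i).submatrix Fin.succ (Fin.succAbove 0) = Matrix.of fun a b => z b (ρ a) := by
      ext a b
      simp [bordM]
    rw [h0]
    simp [bordM]
  · refine Finset.sum_congr rfl fun b _ => ?_
    have hK : (bordM z x ρ a₀ i).submatrix Fin.succ b.succ.succAbove = K b := by
      ext a c
      simp [bordM, K]
    rw [hK]
    simp [bordM]
    ring

/-- Along the first column. -/
theorem bord_col (z : Fin r → Fin e → A) (x : Fin r → A) (ρ : Fin r → Fin e) (a₀ : A) (i : Fin e) :
    (bordM z x ρ a₀ i).det = a₀ * (Matrix.of fun a b => z b (ρ a)).det + ∑ a : Fin r, x a *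
      ((-1) ^ (a.succ : ℕ) * (Matrix.of fun c b => z b ((Fin.cons i ρ : Fin (r + 1) → Fin e) (a.succ.succAbove c))).det) := by
  rw [Matrix.det_succ_column_zero, Fin.sum_univ_succ]
  congr 1
  · have h0 : (bordM z x ρ a₀ i).submatrix (Fin.succAbove 0) Fin.succ = Matrix.of fun a b => z b (ρ a) := by
      ext a b
      simp [bordM]
    rw [h0]
    simp [bordM]
  · refine Finset.sum_congr rfl fun a _ => ?_
    have hK : (bordM z x ρ a₀ i).submatrix a.succ.succAbove Fin.succ =
        Matrix.of fun c b => z b ((Fin.cons i ρ : Fin (r + 1) → Fin e) (a.succ.succAbove c)) := by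
      ext c b
      simp only [bordM, Matrix.submatrix_apply, Matrix.of_apply]
      generalize a.succ.succAbove c = c'
      refine Fin.cases ?_ (fun c' => ?_) c' <;> simp
    rw [hK]
    simp [bordM]
    ring

/-- A minor times a vector is in the span of the columns. -/
theorem det_smul_mem_span {N : Submodule A (Fin e → A)} (hN : GrothLib.Fitting.minors N (r + 1) = ⊥)
    {z : Fin r → Fin e → A} (hz : ∀ b, z b ∈ N) (ρ : Fin r → Fin e) {v : Fin e → A} (hv : v ∈ N) :
    (Matrix.of fun a b => z b (ρ a)).det • v ∈ Submodule.span A (Set.range z) := by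
  obtain ⟨C, hC⟩ := exists_bord_row z (fun a => v (ρ a)) ρ
  rw [show (Matrix.of fun a b => z b (ρ a)).det • v = -∑ b, C b • z b from ?_]
  · exact neg_mem (Submodule.sum_mem _ fun b _ => Submodule.smul_mem _ _ (Submodule.subset_span ⟨b, rfl⟩))
  funext i
  have h := hC (v i) i
  rw [bordM_det_eq_zero hN hz hv] at h
  rw [Pi.smul_apply, smul_eq_mul, Pi.neg_apply]
  linear_combination -h

end Bordered

/-- The Fitting ideals of a quotient of the free module. -/
theorem ideal_quotient (N : Submodule A (Fin e → A)) (j : ℕ) :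
    Fitt.ideal A ((Fin e → A) ⧸ N) j = GrothLib.Fitting.minors N (e - j) := by
  classical
  let x : Fin e → (Fin e → A) ⧸ N := fun i => N.mkQ (Pi.basisFun A (Fin e) i)
  have hx : Submodule.span A (Set.range x) = ⊤ := by
    rw [show x = N.mkQ ∘ Pi.basisFun A (Fin e) from rfl, Set.range_comp, ← Submodule.map_span,
      (Pi.basisFun A (Fin e)).span_eq, Submodule.map_top, Submodule.range_mkQ]
  have hrel : GrothLib.Fitting.rel (R := A) x = N := by
    ext z
    rw [GrothLib.Fitting.mem_rel]
    have : ∑ i, z i • x i = N.mkQ z := by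
      conv_rhs => rw [← (Pi.basisFun A (Fin e)).sum_repr z, map_sum]
      exact Finset.sum_congr rfl fun i _ => by simp [x]
    rw [this, Submodule.mkQ_apply, Submodule.Quotient.mk_eq_zero]
  rw [GrothLib.Fitting.ideal_eq_minors x hx, hrel]

section Locfree

variable (N : Submodule A (Fin e → A)) [Module.Projective A ((Fin e → A) ⧸ N)] {d : ℕ}
  (hd : ∀ p, Module.rankAtStalk (R := A) ((Fin e → A) ⧸ N) p = d)

include hd

theorem fitt_eq (j : ℕ) : Fitt.ideal A ((Fin e → A) ⧸ N) j = if d ≤ j then ⊤ else ⊥ := by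
  classical
  have hloc : ∀ (P : Ideal A) [P.IsMaximal],
      (Fitt.ideal A ((Fin e → A) ⧸ N) j).map (algebraMap A (Localization.AtPrime P)) =
        if d ≤ j then ⊤ else ⊥ := by
    intro P _
    let Q := (Fin e → A) ⧸ N
    haveI : Module.Free (Localization.AtPrime P) (LocalizedModule P.primeCompl Q) := Module.free_of_flat_of_isLocalRing
    have hk : Module.finrank (Localization.AtPrime P) (LocalizedModule P.primeCompl Q) = d := hd ⟨P, inferInstance⟩
    rw [← GrothLib.Fitting.ideal_localized P.primeCompl j,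
      GrothLib.Fitting.ideal_of_basis ((Module.finBasis _ _).reindex (finCongr hk))]
  split_ifs with h
  · by_contra hne
    obtain ⟨P, hP, hle⟩ := Ideal.exists_le_maximal _ hne
    have := hloc P
    rw [if_pos h] at this
    have h2 := (Ideal.map_mono (f := algebraMap A (Localization.AtPrime P)) hle)
    rw [IsLocalization.AtPrime.map_eq_maximalIdeal P (Localization.AtPrime P)] at h2
    exact (IsLocalRing.maximalIdeal.isMaximal _).ne_top (top_le_iff.1 (this.ge.trans h2))
  · rw [eq_bot_iff]
    intro x hx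
    rw [Ideal.mem_bot]
    refine Module.eq_zero_of_localization_maximal (fun (P : Ideal A) [P.IsMaximal] => Localization.AtPrime P)
      (fun (P : Ideal A) [P.IsMaximal] => Algebra.linearMap A (Localization.AtPrime P)) x fun P _ => ?_
    have h2 := Ideal.mem_map_of_mem (algebraMap A (Localization.AtPrime P)) hx
    rw [hloc P, if_neg h, Ideal.mem_bot] at h2
    simpa using h2

theorem minors_succ_eq_bot : GrothLib.Fitting.minors N (e - d + 1) = ⊥ := by
  rcases Nat.eq_zero_or_pos d with h0 | h0
  · rw [eq_bot_iff, GrothLib.Fitting.minors_le_iff]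
    intro z ρ _
    obtain ⟨a, b, hab, hne⟩ : ∃ a b, ρ a = ρ b ∧ a ≠ b :=
      Function.not_injective_iff.1 fun hg => by
        have := Fintype.card_le_of_injective ρ hg
        simp at this
        omega
    exact Ideal.mem_bot.2 (Matrix.det_zero_of_row_eq hne (funext fun l => by simp [hab]))
  · rcases le_or_gt d e with hle | hgt
    · have h := fitt_eq N hd (d - 1)
      rw [if_neg (by omega), ideal_quotient, show e - (d - 1) = e - d + 1 by omega] at h
      exact h
    · have h := fitt_eq N hd (d - 1)
      rw [if_neg (by omega), ideal_quotient, show e - (d - 1) = 0 by omega, GrothLib.Fitting.minors_zero] at h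
      rw [eq_bot_iff, ← h]
      exact le_top

theorem minors_eq_top : GrothLib.Fitting.minors N (e - d) = ⊤ := by
  rw [← ideal_quotient, fitt_eq N hd d, if_pos le_rfl]


end Locfree

end GrothLib.DetRank12
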