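import Groth.Agent.Lib.DetRank12.Present
import Groth.Agent.Lib.BlowUp.Affine
import Groth.Agent.Lib.BlowUp.EffCartier
import Mathlib.AlgebraicGeometry.IdealSheaf.Subscheme

/-!
# Gluing points of schemes over an affine scheme with an invertible ideal
-/

set_option autoImplicit false
set_option linter.all false
set_option backward.isDefEq.respectTransparency false
set_option backward.isDefEq.respectTransparency.types false
universe u

open CategoryTheory CategoryTheory.Limits AlgebraicGeometry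

noncomputable section

namespace GrothLib.DetRank12

open GrothLib.BlowUp (idealSheaf exists_isGen_near isEffCartierIdeal_comap_of_flat ideal_comap_eq_map)

variable {R : Type u} [CommRing R]

theorem ker_specMap_mk (I : Ideal R) :
    (Spec.map (CommRingCat.ofHom (Ideal.Quotient.mk I))).ker = idealSheaf I := by
  rw [Scheme.ker_of_isAffine, idealSheaf]
  congr 1
  have hb : Function.Bijective (Scheme.ΓSpecIso (CommRingCat.of R)).inv.hom :=
    ConcreteCategory.bijective_of_isIso _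
  have hb' : Function.Injective (Scheme.ΓSpecIso (CommRingCat.of (R ⧸ I))).inv.hom :=
    (ConcreteCategory.bijective_of_isIso (Scheme.ΓSpecIso (CommRingCat.of (R ⧸ I))).inv).1
  ext z
  obtain ⟨r, rfl⟩ := hb.2 z
  have h := congrArg (fun φ : CommRingCat.of R ⟶ Γ(Spec (CommRingCat.of (R ⧸ I)), ⊤) => φ.hom r)
    (Scheme.ΓSpecIso_inv_naturality (CommRingCat.ofHom (Ideal.Quotient.mk I)))
  simp only [CommRingCat.hom_comp, RingHom.comp_apply, CommRingCat.hom_ofHom] at h
  rw [RingHom.mem_ker, ← h, ← map_zero (Scheme.ΓSpecIso (CommRingCat.of (R ⧸ I))).inv.hom, hb'.eq_iff,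
    Ideal.Quotient.eq_zero_iff_mem]
  constructor
  · exact Ideal.mem_map_of_mem _
  · intro hz
    obtain ⟨r', hr', he⟩ := (Ideal.mem_map_iff_of_surjective _ hb.2).1 hz
    rwa [← hb.1 he]

theorem ideal_comap_idealSheaf (I : Ideal R) {T : Scheme.{u}} (g : T ⟶ Spec (CommRingCat.of R)) (V : T.affineOpens)
    (φ : R →+* Γ(T, V.1)) (hφ : V.2.fromSpec ≫ g = Spec.map (CommRingCat.ofHom φ)) :
    ((idealSheaf I).comap g).ideal V = I.map φ := by
  have h1 : ((idealSheaf I).comap g).comap V.2.fromSpec = idealSheaf (I.map φ) := by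
    rw [← Scheme.IdealSheafData.comap_comp, hφ, GrothLib.BlowUp.comap_idealSheaf]
  have h2 := congrArg (fun J => Scheme.IdealSheafData.ideal J ⟨⊤, isAffineOpen_top _⟩) h1
  replace h2 := h2.trans (GrothLib.BlowUp.ideal_idealSheaf_top _)
  rw [ideal_comap_eq_map _ V.2.fromSpec V ⟨⊤, isAffineOpen_top _⟩
    (by exact V.2.fromSpec_preimage_self.ge)] at h2
  have h3 : V.2.fromSpec.appLE V.1 ⊤ (by exact V.2.fromSpec_preimage_self.ge) =
      (Scheme.ΓSpecIso Γ(T, V.1)).inv := by
    simp only [Scheme.Hom.appLE, IsAffineOpen.fromSpec_app_self, Category.assoc, ← Functor.map_comp]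
    refine (congrArg _ ?_).trans (Category.comp_id _)
    exact (congrArg _ (Subsingleton.elim _ (𝟙 _))).trans (CategoryTheory.Functor.map_id _ _)
  rw [h3] at h2
  have hb : Function.Bijective (Scheme.ΓSpecIso Γ(T, V.1)).inv.hom := ConcreteCategory.bijective_of_isIso _
  exact ((Ideal.comap_map_of_bijective _ hb).symm.trans
    ((congrArg (Ideal.comap (Scheme.ΓSpecIso Γ(T, V.1)).inv.hom) h2).trans
      (Ideal.comap_map_of_bijective _ hb)))

variable {P : Scheme.{u}} (π : P ⟶ Spec (CommRingCat.of R)) (I : Ideal R)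

/-- Affine uniqueness gives uniqueness of lifts where the ideal is invertible. -/
theorem hom_unique
    (hU : ∀ (A : Type u) [CommRing A] (φ : R →+* A) (g : A), g ∈ nonZeroDivisors A → I.map φ = Ideal.span {g} →
      ∀ f f' : Spec (CommRingCat.of A) ⟶ P, f ≫ π = Spec.map (CommRingCat.ofHom φ) →
        f' ≫ π = Spec.map (CommRingCat.ofHom φ) → f = f')
    {T : Scheme.{u}} (g : T ⟶ Spec (CommRingCat.of R))
    (hg : _root_.BlowUp.IsEffCartierIdeal ((idealSheaf I).comap g))
    {h h' : T ⟶ P} (hh : h ≫ π = g) (hh' : h' ≫ π = g) : h = h' := by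
  choose V φ a hxV hV ha using exists_isGen_near g hg
  refine Scheme.Cover.hom_ext (Scheme.openCoverOfIsOpenCover T (fun x => (V x).1)
    (top_unique fun x _ => TopologicalSpace.Opens.mem_iSup.mpr ⟨x, hxV x⟩)) _ _ fun x => ?_
  show (V x).1.ι ≫ h = (V x).1.ι ≫ h'
  rw [← cancel_epi (V x).2.isoSpec.inv, IsAffineOpen.isoSpec_inv_ι_assoc, IsAffineOpen.isoSpec_inv_ι_assoc]
  exact hU _ (φ x) _ (ha x).1 (ha x).2 _ _ (by rw [Category.assoc, hh, hV]) (by rw [Category.assoc, hh', hV])

/-- Affine existence and uniqueness glue to a unique lift. -/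
theorem exists_hom
    (hU : ∀ (A : Type u) [CommRing A] (φ : R →+* A) (g : A), g ∈ nonZeroDivisors A → I.map φ = Ideal.span {g} →
      ∀ f f' : Spec (CommRingCat.of A) ⟶ P, f ≫ π = Spec.map (CommRingCat.ofHom φ) →
        f' ≫ π = Spec.map (CommRingCat.ofHom φ) → f = f')
    (J : Ideal R)
    (hE : ∀ (A : Type u) [CommRing A] (φ : R →+* A) (g : A), g ∈ nonZeroDivisors A → I.map φ = Ideal.span {g} →
      J.map φ = ⊥ → ∃ f : Spec (CommRingCat.of A) ⟶ P, f ≫ π = Spec.map (CommRingCat.ofHom φ))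
    {T : Scheme.{u}} (g : T ⟶ Spec (CommRingCat.of (R ⧸ J)))
    (hg : _root_.BlowUp.IsEffCartierIdeal
      ((idealSheaf I).comap (g ≫ Spec.map (CommRingCat.ofHom (Ideal.Quotient.mk J))))) :
    ∃ h : T ⟶ P, h ≫ π = g ≫ Spec.map (CommRingCat.ofHom (Ideal.Quotient.mk J)) := by
  set g' := g ≫ Spec.map (CommRingCat.ofHom (Ideal.Quotient.mk J)) with hg'
  choose V φ a hxV hV ha using exists_isGen_near g' hg
  have hJ : ∀ x, J.map (φ x) = ⊥ := fun x => by
    obtain ⟨ψ, hψ⟩ := Spec.map_surjective ((V x).2.fromSpec ≫ g)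
    have h := hV x
    rw [hg', ← Category.assoc, ← hψ, ← Spec.map_comp] at h
    rw [eq_bot_iff, Ideal.map_le_iff_le_comap]
    intro r hr
    rw [Ideal.mem_comap, Ideal.mem_bot]
    have h2 := congrArg (fun χ : CommRingCat.of R ⟶ Γ(T, (V x).1) => χ.hom r) (Spec.map_injective h)
    simp only [CommRingCat.hom_comp, RingHom.comp_apply, CommRingCat.hom_ofHom] at h2
    rw [← h2, Ideal.Quotient.eq_zero_iff_mem.2 hr, map_zero]
  choose f hf using fun x => hE _ (φ x) _ (ha x).1 (ha x).2 (hJ x)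
  let 𝒰 := Scheme.openCoverOfIsOpenCover T (fun x => (V x).1)
    (top_unique fun x _ => TopologicalSpace.Opens.mem_iSup.mpr ⟨x, hxV x⟩)
  let F : ∀ x, 𝒰.X x ⟶ P := fun x => (V x).2.isoSpec.hom ≫ f x
  have hF : ∀ x, F x ≫ π = 𝒰.f x ≫ g' := fun x => by
    show ((V x).2.isoSpec.hom ≫ f x) ≫ π = (V x).1.ι ≫ g'
    rw [Category.assoc, hf, ← hV x, ← IsAffineOpen.isoSpec_inv_ι, Category.assoc, Iso.hom_inv_id_assoc]
  refine ⟨𝒰.glueMorphisms F fun x y => ?_, ?_⟩
  · refine hom_unique π I hU (pullback.fst (𝒰.f x) (𝒰.f y) ≫ 𝒰.f x ≫ g') ?_ (by rw [Category.assoc, hF]) ?_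
    · haveI : IsOpenImmersion (pullback.fst (𝒰.f x) (𝒰.f y) ≫ 𝒰.f x) := inferInstance
      rw [← Category.assoc, Scheme.IdealSheafData.comap_comp]
      exact isEffCartierIdeal_comap_of_flat _ hg
    · rw [Category.assoc, hF, pullback.condition_assoc]
  · refine Scheme.Cover.hom_ext 𝒰 _ _ fun x => ?_
    rw [Scheme.Cover.ι_glueMorphisms_assoc, hF]

end GrothLib.DetRank12
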