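import Groth.Agent.Lib.DetRank12.Geometry
import Groth.Agent.Lib.BlowUpBC12.Algebra
import Mathlib.RingTheory.Flat.Basic
import Mathlib.AlgebraicGeometry.Morphisms.Flat

/-!
# The scheme of lines through a regular sequence blows up its ideal
-/

set_option autoImplicit false
set_option linter.all false
set_option maxHeartbeats 1000000
set_option backward.isDefEq.respectTransparency false
set_option backward.isDefEq.respectTransparency.types false
universe u

open CategoryTheory CategoryTheory.Limits AlgebraicGeometry TensorProduct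

noncomputable section

namespace GrothLib.DetRank12

open GrothLib.BlowUp (idealSheaf)

section Algebra

variable {A : Type u} [CommRing A] {n : ℕ}

/-- A rank one subbundle containing a vector with a coordinate one is spanned by it. -/
theorem line_eq_span (N : Submodule A (Fin n → A)) [Module.Projective A ((Fin n → A) ⧸ N)]
    (hd : ∀ p, Module.rankAtStalk (R := A) ((Fin n → A) ⧸ N) p = n - 1) {t : Fin n → A} (ht : t ∈ N)
    (i : Fin n) (hti : t i = 1) : N = Submodule.span A {t} := by
  refine le_antisymm (fun v hv => ?_) ((Submodule.span_singleton_le_iff_mem _ _).2 ht)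
  have hN := minors_succ_eq_bot N hd
  rw [show n - (n - 1) + 1 = 1 + 1 by have := i.isLt; omega] at hN
  have h := det_smul_mem_span hN (z := fun _ : Fin 1 => t) (fun _ => ht) (fun _ => i) hv
  rw [Matrix.det_unique, Set.range_const] at h
  simpa [hti] using h

/-- The quotient by a vector with a coordinate one is free of corank one. -/
theorem span_quotient (t : Fin n → A) (i : Fin n) (hti : t i = 1) :
    Module.Projective A ((Fin n → A) ⧸ Submodule.span A {t}) ∧
      ∀ p, Module.rankAtStalk (R := A) ((Fin n → A) ⧸ Submodule.span A {t}) p = n - 1 := by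
  classical
  let π : (Fin n → A) →ₗ[A] ({j : Fin n // j ≠ i} → A) :=
    LinearMap.pi fun j => LinearMap.proj j.1 - t j.1 • LinearMap.proj i
  have hk : LinearMap.ker π = Submodule.span A {t} := by
    ext v
    rw [Submodule.mem_span_singleton]
    constructor
    · intro hv
      refine ⟨v i, funext fun j => ?_⟩
      by_cases hj : j = i
      · subst hj; simp [hti]
      · have := congrFun (LinearMap.mem_ker.1 hv) ⟨j, hj⟩
        simp [π, sub_eq_zero] at this
        simp [this, mul_comm]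
    · rintro ⟨c, rfl⟩
      refine LinearMap.mem_ker.2 (funext fun j => ?_)
      simp [π, hti, mul_comm]
  have hs : Function.Surjective π := fun w => by
    refine ⟨fun j => if h : j = i then 0 else w ⟨j, h⟩, funext fun j => ?_⟩
    simp [π, j.2]
  let e : ((Fin n → A) ⧸ Submodule.span A {t}) ≃ₗ[A] ({j : Fin n // j ≠ i} → A) :=
    (Submodule.quotEquivOfEq _ _ hk.symm).trans (π.quotKerEquivOfSurjective hs)
  refine ⟨Module.Projective.of_equiv e.symm, fun p => ?_⟩
  haveI : Nontrivial A := ⟨⟨0, 1, fun h => p.2.ne_top ((Ideal.eq_top_iff_one _).2 (h ▸ zero_mem _))⟩⟩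
  rw [Module.rankAtStalk_eq_of_equiv e, Module.rankAtStalk_eq_finrank_of_free, Pi.natCast_apply,
    Module.finrank_pi]
  simp [Fintype.card_subtype_compl]

end Algebra

variable {R : Type u} [CommRing R] {n : ℕ} (f : Fin n → R)

/-- The cokernel of the section. -/
abbrev Cok : Type u := (Fin n → R) ⧸ Submodule.span R {f}

/-- The generators of the cokernel. -/
def gens : Fin n → Cok f := fun i => (Submodule.span R {f}).mkQ (Pi.basisFun R (Fin n) i)

/-- The column of the section. -/
def colMat : Matrix (Fin n) (Fin 1) R := Matrix.of fun i _ => f i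

theorem span_gens : Submodule.span R (Set.range (gens f)) = ⊤ := by
  rw [show gens f = (Submodule.span R {f}).mkQ ∘ Pi.basisFun R (Fin n) from rfl, Set.range_comp,
    ← Submodule.map_span, (Pi.basisFun R (Fin n)).span_eq, Submodule.map_top, Submodule.range_mkQ]

theorem rel_gens : GrothLib.Fitting.rel (R := R) (gens f) = cols (colMat f) := by
  have hc : cols (colMat f) = Submodule.span R {f} := by
    rw [cols, show (fun (k : Fin 1) i => colMat f i k) = fun _ => f from rfl, Set.range_const]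
  ext z
  rw [GrothLib.Fitting.mem_rel, hc]
  have : ∑ i, z i • gens f i = (Submodule.span R {f}).mkQ z := by
    conv_rhs => rw [← (Pi.basisFun R (Fin n)).sum_repr z, map_sum]
    exact Finset.sum_congr rfl fun i _ => by simp [gens]
  rw [this, Submodule.mkQ_apply, Submodule.Quotient.mk_eq_zero]

theorem mins_colMat (A : Type u) [CommRing A] [Algebra R A] :
    mins ((colMat f).map (algebraMap R A)) 1 = (Ideal.span (Set.range f)).map (algebraMap R A) := by
  rw [mins, Ideal.map_span, ← Set.range_comp]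
  congr 1
  ext a
  constructor
  · rintro ⟨ρ, γ, rfl⟩
    exact ⟨ρ 0, by simp [colMat]⟩
  · rintro ⟨j, rfl⟩
    exact ⟨fun _ => j, fun _ => 0, by simp [colMat]⟩

theorem mins_colMat_two (A : Type u) [CommRing A] [Algebra R A] :
    mins ((colMat f).map (algebraMap R A)) (1 + 1) = ⊥ := by
  rw [eq_bot_iff, mins, Ideal.span_le]
  rintro _ ⟨ρ, γ, rfl⟩
  exact Ideal.mem_bot.2 (Matrix.det_zero_of_column_eq (i := 0) (j := 1) (by decide)
    fun k => by simp [Matrix.submatrix, Subsingleton.elim (γ 0) (γ 1)])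

/-- A representing object of the quotient functor. -/
structure Rep where
  P : Over (Spec (CommRingCat.of R))
  ep : ∀ A : CommAlgCat.{u} R, (Over.mk (Spec.map (CommRingCat.ofHom (algebraMap R A))) ⟶ P) ≃
    (Module.Grassmannian.functor (R := R) (M := Cok f) (n - 1)).obj A
  nat : ∀ (A A' : CommAlgCat.{u} R) (φ : A ⟶ A')
    (g : Over.mk (Spec.map (CommRingCat.ofHom (algebraMap R A))) ⟶ P)
    (g' : Over.mk (Spec.map (CommRingCat.ofHom (algebraMap R A'))) ⟶ P),
      g'.left = Spec.map (CommRingCat.ofHom φ.hom.toRingHom) ≫ g.left →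
        ep A' g' = (Module.Grassmannian.functor (R := R) (M := Cok f) (n - 1)).map φ (ep A g)

variable {f} (D : Rep f)

/-- The line of a point. -/
abbrev lineOf {A : Type u} [CommRing A] [Algebra R A] (h : Spec (CommRingCat.of A) ⟶ D.P.left)
    (hh : h ≫ D.P.hom = Spec.map (CommRingCat.ofHom (algebraMap R A))) : Submodule A (Fin n → A) :=
  toSub (gens f) D.P D.ep h hh

theorem comp_hom {A A' : Type u} [CommRing A] [CommRing A'] [Algebra R A] [Algebra R A'] (φ : A →ₐ[R] A')
    {h : Spec (CommRingCat.of A) ⟶ D.P.left}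
    (hh : h ≫ D.P.hom = Spec.map (CommRingCat.ofHom (algebraMap R A))) :
    (Spec.map (CommRingCat.ofHom φ.toRingHom) ≫ h) ≫ D.P.hom =
      Spec.map (CommRingCat.ofHom (algebraMap R A')) := by
  rw [Category.assoc, hh, ← Spec.map_comp, ← CommRingCat.ofHom_comp, AlgHom.toRingHom_eq_coe,
    AlgHom.comp_algebraMap]

theorem comp_mem_line {A A' : Type u} [CommRing A] [CommRing A'] [Algebra R A] [Algebra R A'] (φ : A →ₐ[R] A')
    {h : Spec (CommRingCat.of A) ⟶ D.P.left}
    (hh : h ≫ D.P.hom = Spec.map (CommRingCat.ofHom (algebraMap R A)))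
    {v : Fin n → A} (hv : v ∈ lineOf D h hh) :
    (fun i => φ (v i)) ∈ lineOf D (Spec.map (CommRingCat.ofHom φ.toRingHom) ≫ h) (comp_hom D φ hh) := by
  have hn := D.nat (CommAlgCat.of R A) (CommAlgCat.of R A') (CommAlgCat.ofHom φ) (Over.homMk h hh)
    (Over.homMk _ (comp_hom D φ hh)) rfl
  rw [lineOf, toSub, Submodule.mem_comap, hn]
  letI : Algebra A A' := φ.toRingHom.toAlgebra
  haveI : IsScalarTower R A A' := IsScalarTower.of_algebraMap_eq fun r => (φ.commutes r).symm
  let N : Submodule A (A ⊗[R] Cok f) :=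
    (D.ep (CommAlgCat.of R A) (Over.homMk h hh) : Module.Grassmannian A (A ⊗[R] Cok f) (n - 1)).toSubmodule
  show genMap (gens f) A' (fun i => φ (v i)) ∈ LinearMap.ker (Module.Grassmannian.baseChangeMkQ A' N)
  rw [LinearMap.mem_ker]
  have hb : ∀ w : A ⊗[R] Cok f, (N.mkQ.baseChange A') ((1 : A') ⊗ₜ[A] w) = (1 : A') ⊗ₜ[A] N.mkQ w := fun w => rfl
  have h1 : Module.Grassmannian.baseChangeMkQ A' N (genMap (gens f) A' fun i => φ (v i)) =
      (1 : A') ⊗ₜ[A] N.mkQ (genMap (gens f) A v) := by
    simp only [genMap, Fintype.linearCombination_apply, map_sum, TensorProduct.tmul_sum, map_smul]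
    refine Finset.sum_congr rfl fun i _ => ?_
    rw [TensorProduct.tmul_smul, ← algebraMap_smul A' (v i)]
    congr 1
  rw [h1, show N.mkQ (genMap (gens f) A v) = 0 from (Submodule.Quotient.mk_eq_zero _).2 hv, TensorProduct.tmul_zero]

theorem line_comp_eq {A A' : Type u} [CommRing A] [CommRing A'] [Algebra R A] [Algebra R A'] (φ : A →ₐ[R] A')
    {h : Spec (CommRingCat.of A) ⟶ D.P.left}
    (hh : h ≫ D.P.hom = Spec.map (CommRingCat.ofHom (algebraMap R A)))
    {t : Fin n → A} (ht : t ∈ lineOf D h hh) (i : Fin n) (hti : φ (t i) = 1) :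
    lineOf D (Spec.map (CommRingCat.ofHom φ.toRingHom) ≫ h) (comp_hom D φ hh) =
      Submodule.span A' {fun j => φ (t j)} := by
  obtain ⟨-, h2, h3⟩ := toSub_spec (gens f) (span_gens f) (colMat f) (rel_gens f) D.P D.ep
    (Spec.map (CommRingCat.ofHom φ.toRingHom) ≫ h) (comp_hom D φ hh)
  exact line_eq_span _ h3 (comp_mem_line D φ hh ht) i hti

theorem line_congr {A : Type u} [CommRing A] [Algebra R A] {h h' : Spec (CommRingCat.of A) ⟶ D.P.left}
    (hh : h ≫ D.P.hom = Spec.map (CommRingCat.ofHom (algebraMap R A)))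
    (hh' : h' ≫ D.P.hom = Spec.map (CommRingCat.ofHom (algebraMap R A))) (e : h = h') :
    lineOf D h hh = lineOf D h' hh' := by
  subst e; rfl

section Chart

variable (f) (i : Fin n)

/-- The ring of the chart. -/
abbrev ChartRing : Type u := MvPolynomial (GrothLib.BlowUp17.Var i) R ⧸ GrothLib.BlowUpBC12.rels f i

/-- The coordinates on the chart. -/
def cv (k : Fin n) : ChartRing f i := Ideal.Quotient.mk _ (GrothLib.BlowUpBC12.xv i k)

theorem cv_self : cv f i i = 1 := by simp [cv, GrothLib.BlowUpBC12.xv]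

theorem algebraMap_eq_mul_cv (k : Fin n) :
    algebraMap R (ChartRing f i) (f k) = algebraMap R (ChartRing f i) (f i) * cv f i k := by
  by_cases hk : k = i
  · subst hk; rw [cv_self, mul_one]
  · show Ideal.Quotient.mk _ (MvPolynomial.C (f k)) = Ideal.Quotient.mk _ (MvPolynomial.C (f i)) * Ideal.Quotient.mk _ _
    rw [← map_mul]
    exact (Ideal.Quotient.eq).2 (Ideal.subset_span ⟨k, hk, by rw [GrothLib.BlowUpBC12.eqs, if_neg hk]⟩)

theorem chart_hom_ext {A : Type u} [CommRing A] [Algebra R A] (ψ ψ' : ChartRing f i →ₐ[R] A)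
    (h : ∀ k, ψ (cv f i k) = ψ' (cv f i k)) : ψ = ψ' := by
  refine Ideal.Quotient.algHom_ext R (MvPolynomial.algHom_ext fun k => ?_)
  have := h k.1
  simpa [cv, GrothLib.BlowUpBC12.xv, k.2] using this

theorem exists_chart_hom {A : Type u} [CommRing A] [Algebra R A] (t : Fin n → A) (hti : t i = 1)
    (hf : ∀ k, algebraMap R A (f k) = algebraMap R A (f i) * t k) :
    ∃ ψ : ChartRing f i →ₐ[R] A, ∀ k, ψ (cv f i k) = t k := by
  let Φ : MvPolynomial (GrothLib.BlowUp17.Var i) R →ₐ[R] A := MvPolynomial.aeval fun k => t k.1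
  have hΦ : ∀ k, Φ (GrothLib.BlowUpBC12.xv i k) = t k := fun k => by
    by_cases hk : k = i
    · subst hk; simp [GrothLib.BlowUpBC12.xv, hti]
    · simp [GrothLib.BlowUpBC12.xv, Φ, hk]
  refine ⟨Ideal.Quotient.liftₐ _ Φ fun p hp => ?_, fun k => ?_⟩
  · induction hp using Submodule.span_induction with
    | mem p hp =>
      obtain ⟨k, hk, rfl⟩ := hp
      rw [GrothLib.BlowUpBC12.eqs, if_neg hk, map_sub, map_mul, hΦ, MvPolynomial.algHom_C, MvPolynomial.algHom_C,
        ← hf, sub_self]
    | zero => exact map_zero _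
    | add _ _ _ _ h₁ h₂ => rw [map_add, h₁, h₂, add_zero]
    | smul c p _ h => rw [smul_eq_mul, map_mul, h, mul_zero]
  · rw [cv]; exact hΦ k

end Chart

/-- The chart of lines with nonzero coordinate `i`. -/
theorem exists_chart (i : Fin n) :
    ∃ (J : Spec (CommRingCat.of (ChartRing f i)) ⟶ D.P.left)
      (hJ : J ≫ D.P.hom = Spec.map (CommRingCat.ofHom (algebraMap R (ChartRing f i)))),
      lineOf D J hJ = Submodule.span (ChartRing f i) {cv f i} := by
  obtain ⟨hp, hr⟩ := span_quotient (cv f i) i (cv_self f i)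
  refine exists_toSub (gens f) (span_gens f) (colMat f) (rel_gens f) D.P D.ep _ ?_ hr
  rw [cols, Submodule.span_le]
  rintro _ ⟨k, rfl⟩
  refine Submodule.mem_span_singleton.2 ⟨algebraMap R (ChartRing f i) (f i), funext fun j => ?_⟩
  simpa [colMat] using (algebraMap_eq_mul_cv f i j).symm

theorem mono_chart {i : Fin n} {J : Spec (CommRingCat.of (ChartRing f i)) ⟶ D.P.left}
    (hJ : J ≫ D.P.hom = Spec.map (CommRingCat.ofHom (algebraMap R (ChartRing f i))))
    (hline : lineOf D J hJ = Submodule.span (ChartRing f i) {cv f i}) : Mono J := by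
  refine ⟨fun {T} u v huv => ?_⟩
  refine Scheme.Cover.hom_ext (T.affineCover) _ _ fun j => ?_
  obtain ⟨a, ha⟩ := Spec.map_surjective (T.affineCover.f j ≫ u)
  obtain ⟨b, hb⟩ := Spec.map_surjective (T.affineCover.f j ≫ v)
  rw [← ha, ← hb]
  have hab : Spec.map a ≫ J = Spec.map b ≫ J := by rw [ha, hb, Category.assoc, Category.assoc, huv]
  have hcomp : a.hom.comp (algebraMap R (ChartRing f i)) = b.hom.comp (algebraMap R (ChartRing f i)) := by
    have h := congrArg (· ≫ D.P.hom) hab
    simp only [Category.assoc, hJ, ← Spec.map_comp] at h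
    exact congrArg CommRingCat.Hom.hom (Spec.map_injective h)
  letI := (a.hom.comp (algebraMap R (ChartRing f i))).toAlgebra
  let ψa : ChartRing f i →ₐ[R] _ := { a.hom with commutes' := fun r => rfl }
  let ψb : ChartRing f i →ₐ[R] _ := { b.hom with commutes' := fun r => (RingHom.congr_fun hcomp r).symm }
  have h1 := line_comp_eq D ψa hJ (hline ▸ Submodule.mem_span_singleton_self (cv f i)) i (by rw [cv_self, map_one])
  have h2 := line_comp_eq D ψb hJ (hline ▸ Submodule.mem_span_singleton_self (cv f i)) i (by rw [cv_self, map_one])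
  have h3 := (h2.symm.trans (line_congr D (comp_hom D ψb hJ) (comp_hom D ψa hJ)
    (show Spec.map b ≫ J = Spec.map a ≫ J from hab.symm))).trans h1
  have hm := h3.le (Submodule.mem_span_singleton_self _)
  obtain ⟨c, hc⟩ := Submodule.mem_span_singleton.1 hm
  have hc1 := congrFun hc i
  simp only [Pi.smul_apply, cv_self, map_one, smul_eq_mul, mul_one] at hc1
  rw [hc1, one_smul] at hc
  have := chart_hom_ext f i ψb ψa (fun k => (congrFun hc k).symm)
  congr 1
  exact CommRingCat.hom_ext (congrArg AlgHom.toRingHom this).symm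

/-- The ideal of the section is invertible on the scheme of lines. -/
theorem isEffCartierIdeal_lines (hf : LCI.IsKoszulRegularSeq R (List.ofFn f)) (hn : 1 ≤ n) :
    _root_.BlowUp.IsEffCartierIdeal ((idealSheaf (Ideal.span (Set.range f))).comap D.P.hom) := by
  classical
  intro z
  obtain ⟨V₀, hzV₀, -⟩ := GrothLib.BlowUp.exists_affine_mem_le (X := D.P.left) (W := ⊤) (x := z) trivial
  obtain ⟨φ, hφ⟩ : ∃ φ : R →+* Γ(D.P.left, V₀.1), V₀.2.fromSpec ≫ D.P.hom = Spec.map (CommRingCat.ofHom φ) :=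
    ⟨(Spec.preimage (V₀.2.fromSpec ≫ D.P.hom)).hom, by rw [CommRingCat.ofHom_hom, Spec.map_preimage]⟩
  letI := φ.toAlgebra
  obtain ⟨h1, h2, h3⟩ := toSub_spec (gens f) (span_gens f) (colMat f) (rel_gens f) D.P D.ep V₀.2.fromSpec hφ
  let p := (V₀.2.primeIdealOf ⟨z, hzV₀⟩).asIdeal
  obtain ⟨w, ρ, hw, hwp⟩ : ∃ (w : Fin (n - (n - 1)) → Fin n → Γ(D.P.left, V₀.1)) (ρ : Fin (n - (n - 1)) → Fin n),
      (∀ b, w b ∈ lineOf D V₀.2.fromSpec hφ) ∧ (Matrix.of fun a b => w b (ρ a)).det ∉ p := by
    by_contra h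
    push Not at h
    refine (inferInstance : p.IsPrime).ne_top (top_le_iff.1 ?_)
    rw [← minors_eq_top _ h3, GrothLib.Fitting.minors_le_iff]
    exact fun z ρ hz => h z ρ hz
  have hone : n - (n - 1) = 1 := by omega
  let i := ρ (Fin.cast hone.symm 0)
  let s : Fin n → Γ(D.P.left, V₀.1) := w (Fin.cast hone.symm 0)
  have hsp : s i ∉ p := by
    have : (Matrix.of fun a b => w b (ρ a)).det = s i := by
      haveI : Subsingleton (Fin (n - (n - 1))) := (finCongr hone).subsingleton
      rw [Matrix.det_eq_elem_of_subsingleton _ (Fin.cast hone.symm 0)]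
      rfl
    rwa [this] at hwp
  let V : D.P.left.affineOpens := D.P.left.affineBasicOpen (s i)
  have hle : V.1 ≤ V₀.1 := Scheme.basicOpen_le _ _
  have hzV : z ∈ V.1 := by
    have : V₀.2.primeIdealOf ⟨z, hzV₀⟩ ∈ PrimeSpectrum.basicOpen (s i) := hsp
    rw [← V₀.2.fromSpec_preimage_basicOpen] at this
    have h2 : V₀.2.fromSpec.base (V₀.2.primeIdealOf ⟨z, hzV₀⟩) ∈ D.P.left.basicOpen (s i) := this
    rw [IsAffineOpen.fromSpec_primeIdealOf] at h2
    exact h2
  let res : Γ(D.P.left, V₀.1) →+* Γ(D.P.left, V.1) := (D.P.left.presheaf.map (homOfLE hle).op).hom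
  letI : Algebra R Γ(D.P.left, V.1) := (res.comp φ).toAlgebra
  let resA : Γ(D.P.left, V₀.1) →ₐ[R] Γ(D.P.left, V.1) := { res with commutes' := fun r => rfl }
  have hu : IsUnit (res (s i)) :=
    RingedSpace.isUnit_res_basicOpen (X := D.P.left.toLocallyRingedSpace.toRingedSpace) _
  let t : Fin n → Γ(D.P.left, V.1) := fun j => ↑hu.unit⁻¹ * res (s j)
  have hti : t i = 1 := hu.val_inv_mul
  have hVP : V.2.fromSpec ≫ D.P.hom = Spec.map (CommRingCat.ofHom (algebraMap R Γ(D.P.left, V.1))) := by
    rw [← V₀.2.map_fromSpec V.2 (homOfLE hle).op, Category.assoc, hφ, ← Spec.map_comp]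
    rfl
  obtain ⟨g1, g2, g3⟩ := toSub_spec (gens f) (span_gens f) (colMat f) (rel_gens f) D.P D.ep V.2.fromSpec hVP
  have htmem : t ∈ lineOf D V.2.fromSpec hVP := by
    rw [line_congr D hVP (comp_hom D resA hφ) (V₀.2.map_fromSpec V.2 (homOfLE hle).op).symm]
    exact Submodule.smul_mem _ (↑hu.unit⁻¹ : Γ(D.P.left, V.1)) (comp_mem_line D resA hφ (hw (Fin.cast hone.symm 0)))
  have hline : lineOf D V.2.fromSpec hVP = Submodule.span _ {t} := line_eq_span _ g3 htmem i hti
  have hft : ∀ k, algebraMap R Γ(D.P.left, V.1) (f k) = algebraMap R Γ(D.P.left, V.1) (f i) * t k := by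
    have : (fun k => algebraMap R Γ(D.P.left, V.1) (f k)) ∈ Submodule.span Γ(D.P.left, V.1) {t} :=
      hline ▸ g1 (Submodule.subset_span ⟨0, rfl⟩)
    obtain ⟨c, hc⟩ := Submodule.mem_span_singleton.1 this
    intro k
    have hci := congrFun hc i
    simp only [Pi.smul_apply, hti, smul_eq_mul, mul_one] at hci
    rw [← hci]
    exact (congrFun hc k).symm
  obtain ⟨ψ, hψ⟩ := exists_chart_hom f i t hti hft
  obtain ⟨J, hJ, hJline⟩ := exists_chart D i
  haveI := mono_chart D hJ hJline
  let κ := Spec.map (CommRingCat.ofHom ψ.toRingHom)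
  have hκ : κ ≫ J = V.2.fromSpec := by
    refine toSub_injective (gens f) (span_gens f) D.P D.ep (comp_hom D ψ hJ) hVP ?_
    show lineOf D _ _ = lineOf D _ _
    rw [line_comp_eq D ψ hJ (hJline ▸ Submodule.mem_span_singleton_self (cv f i)) i (by rw [cv_self, map_one]), hline]
    congr 1
    exact congrArg (fun x => ({x} : Set (Fin n → Γ(D.P.left, V.1)))) (funext hψ)
  haveI : IsOpenImmersion κ := by
    let W : (Spec (CommRingCat.of (ChartRing f i))).Opens := J ⁻¹ᵁ V.1
    have hW : Set.range (W.ι ≫ J).base ⊆ Set.range V.2.fromSpec.base := by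
      rintro _ ⟨y, rfl⟩
      rw [V.2.range_fromSpec]
      exact y.2
    have hκW : Set.range κ.base ⊆ Set.range W.ι.base := by
      rintro _ ⟨y, rfl⟩
      rw [Scheme.Opens.range_ι]
      show J.base (κ.base y) ∈ V.1
      rw [← Scheme.Hom.comp_apply, hκ]
      exact V.2.range_fromSpec.le ⟨y, rfl⟩
    let κ' := IsOpenImmersion.lift W.ι κ hκW
    let j' := IsOpenImmersion.lift V.2.fromSpec (W.ι ≫ J) hW
    have h1 : κ' ≫ j' = 𝟙 _ := by
      rw [← cancel_mono V.2.fromSpec, Category.assoc, IsOpenImmersion.lift_fac, IsOpenImmersion.lift_fac_assoc,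
        hκ, Category.id_comp]
    have h2 : j' ≫ κ' = 𝟙 _ := by
      rw [← cancel_mono W.ι, Category.assoc, IsOpenImmersion.lift_fac, ← cancel_mono J, Category.assoc, hκ,
        IsOpenImmersion.lift_fac, Category.id_comp]
    haveI : IsIso κ' := ⟨j', h1, h2⟩
    rw [show κ = κ' ≫ W.ι from (IsOpenImmersion.lift_fac _ _ _).symm]
    infer_instance
  have hflat : ψ.toRingHom.Flat := by
    have : Flat κ := inferInstance
    exact HasRingHomProperty.Spec_iff.1 this
  refine ⟨V, hzV, algebraMap R Γ(D.P.left, V.1) (f i), ?_, ?_⟩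
  · rw [← ψ.commutes]
    refine GrothLib.BlowUp.mem_nonZeroDivisors_of_flat ψ.toRingHom hflat ?_
    rw [mem_nonZeroDivisors_iff_right]
    intro y hy
    obtain ⟨y, rfl⟩ := Ideal.Quotient.mk_surjective y
    refine Ideal.Quotient.eq_zero_iff_mem.2 (GrothLib.BlowUpBC12.mem_rels_of_C_mul_mem f i hf y ?_)
    rw [mul_comm]
    exact Ideal.Quotient.eq_zero_iff_mem.1 hy
  · rw [ideal_comap_idealSheaf _ _ V (algebraMap R Γ(D.P.left, V.1)) hVP, Ideal.map_span, ← Set.range_comp]
    refine le_antisymm (Ideal.span_le.2 ?_) ((Ideal.span_singleton_le_iff_mem _).2 (Ideal.subset_span ⟨i, rfl⟩))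
    rintro _ ⟨k, rfl⟩
    exact Ideal.mem_span_singleton'.2 ⟨t k, by rw [Function.comp_apply, hft k, mul_comm]⟩

/-- The scheme of lines is a blowing up. -/
theorem isBlowUp_lines (hf : LCI.IsKoszulRegularSeq R (List.ofFn f)) (hn : 1 ≤ n) :
    _root_.BlowUp.IsBlowUp D.P.hom (idealSheaf (Ideal.span (Set.range f))) := by
  refine ⟨isEffCartierIdeal_lines D hf hn, fun T g hg => ?_⟩
  have hone : n - (n - 1) = 1 := by omega
  have hU : ∀ (A : Type u) [CommRing A] (φ : R →+* A) (a : A), a ∈ nonZeroDivisors A →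
      (Ideal.span (Set.range f)).map φ = Ideal.span {a} → ∀ h h' : Spec (CommRingCat.of A) ⟶ D.P.left,
        h ≫ D.P.hom = Spec.map (CommRingCat.ofHom φ) → h' ≫ D.P.hom = Spec.map (CommRingCat.ofHom φ) → h = h' := by
    intro A _ φ a ha hI h h' hh hh'
    algebraize [φ]
    obtain ⟨h1, h2, h3⟩ := toSub_spec (gens f) (span_gens f) (colMat f) (rel_gens f) D.P D.ep h hh
    obtain ⟨h1', h2', h3'⟩ := toSub_spec (gens f) (span_gens f) (colMat f) (rel_gens f) D.P D.ep h' hh'
    have hI' : mins ((colMat f).map (algebraMap R A)) (n - (n - 1)) = Ideal.span {a} := by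
      rw [hone]; exact (mins_colMat f A).trans hI
    exact toSub_injective (gens f) (span_gens f) D.P D.ep hh hh'
      ((eq_sat _ _ h3 h1 ha hI').trans (eq_sat _ _ h3' h1' ha hI').symm)
  have hE : ∀ (A : Type u) [CommRing A] (φ : R →+* A) (a : A), a ∈ nonZeroDivisors A →
      (Ideal.span (Set.range f)).map φ = Ideal.span {a} → (⊥ : Ideal R).map φ = ⊥ →
        ∃ h : Spec (CommRingCat.of A) ⟶ D.P.left, h ≫ D.P.hom = Spec.map (CommRingCat.ofHom φ) := by
    intro A _ φ a ha hI _
    algebraize [φ]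
    obtain ⟨hp, hr⟩ := sat_quotient ((colMat f).map (algebraMap R A)) (mins_colMat_two f A) ha
      ((mins_colMat f A).trans hI)
    obtain ⟨h, hh, -⟩ := exists_toSub (gens f) (span_gens f) (colMat f) (rel_gens f) D.P D.ep _
      (cols_le_sat ((colMat f).map (algebraMap R A)) a) hr
    exact ⟨h, hh⟩
  let g₀ := g ≫ Spec.map (CommRingCat.ofHom (RingEquiv.quotientBot R).toRingHom)
  have hg₀ : g₀ ≫ Spec.map (CommRingCat.ofHom (Ideal.Quotient.mk (⊥ : Ideal R))) = g := by
    rw [Category.assoc, ← Spec.map_comp, ← CommRingCat.ofHom_comp,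
      show (RingEquiv.quotientBot R).toRingHom.comp (Ideal.Quotient.mk ⊥) = RingHom.id R from RingHom.ext fun r => rfl,
      CommRingCat.ofHom_id, Spec.map_id, Category.comp_id]
  obtain ⟨h, hh⟩ := exists_hom D.P.hom (Ideal.span (Set.range f)) hU ⊥ hE g₀ (by rw [hg₀]; exact hg)
  rw [hg₀] at hh
  exact ⟨h, hh, fun h' hh' => hom_unique D.P.hom _ hU g hg hh' hh⟩

end GrothLib.DetRank12
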