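import Groth.Agent.Lib.DetRank12.Geometry
import Groth.Prelude.Def_CurvBase

/-!
# The product of the Grassmannians of a module and of its transpose blows up the degeneracy locus
-/

set_option autoImplicit false
set_option linter.all false
set_option maxHeartbeats 1000000
set_option backward.isDefEq.respectTransparency false
set_option backward.isDefEq.respectTransparency.types false
universe u

open CategoryTheory CategoryTheory.Limits AlgebraicGeometry

noncomputable section

namespace GrothLib.DetRank12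

open GrothLib.BlowUp (idealSheaf)

variable {R : Type u} [CommRing R] {e m d d' : ℕ}
  {M : Type u} [AddCommGroup M] [Module R M] (x : Fin e → M) (hx : Submodule.span R (Set.range x) = ⊤)
  (S : Matrix (Fin e) (Fin m) R) (hrel : GrothLib.Fitting.rel (R := R) x = cols S)
  {K : Type u} [AddCommGroup K] [Module R K] (y : Fin m → K) (hy : Submodule.span R (Set.range y) = ⊤)
  (hrely : GrothLib.Fitting.rel (R := R) y = cols S.transpose)
  (Bp Bm : Over (Spec (CommRingCat.of R)))
  (ep : ∀ A : CommAlgCat.{u} R, (Over.mk (Spec.map (CommRingCat.ofHom (algebraMap R A))) ⟶ Bp) ≃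
    (Module.Grassmannian.functor (R := R) (M := M) d).obj A)
  (em : ∀ A : CommAlgCat.{u} R, (Over.mk (Spec.map (CommRingCat.ofHom (algebraMap R A))) ⟶ Bm) ≃
    (Module.Grassmannian.functor (R := R) (M := K) d').obj A)
  (hr : m - d' = e - d) (hd' : d ≤ e → m - (e - d) = d')

include x hx S hrel y hy hrely ep em hr

theorem points_unique (A : Type u) [CommRing A] (φ : R →+* A) (g : A) (hg : g ∈ nonZeroDivisors A)
    (hI : (Fitt.ideal R M d).map φ = Ideal.span {g})
    (f f' : Spec (CommRingCat.of A) ⟶ pullback Bp.hom Bm.hom)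
    (hf : f ≫ pullback.fst Bp.hom Bm.hom ≫ Bp.hom = Spec.map (CommRingCat.ofHom φ))
    (hf' : f' ≫ pullback.fst Bp.hom Bm.hom ≫ Bp.hom = Spec.map (CommRingCat.ofHom φ)) : f = f' := by
  algebraize [φ]
  replace hI : mins (S.map (algebraMap R A)) (e - d) = Ideal.span {g} := (map_ideal x A hx S hrel d).symm.trans hI
  apply pullback.hom_ext
  · refine toSub_injective x hx Bp ep (by rw [Category.assoc]; exact hf) (by rw [Category.assoc]; exact hf') ?_
    obtain ⟨h1, h2, h3⟩ := toSub_spec x hx S hrel Bp ep (f ≫ pullback.fst Bp.hom Bm.hom) (by rw [Category.assoc]; exact hf)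
    obtain ⟨h1', h2', h3'⟩ := toSub_spec x hx S hrel Bp ep (f' ≫ pullback.fst Bp.hom Bm.hom) (by rw [Category.assoc]; exact hf')
    exact (eq_sat _ _ h3 h1 hg hI).trans (eq_sat _ _ h3' h1' hg hI).symm
  · refine toSub_injective y hy Bm em (by rw [Category.assoc, ← pullback.condition]; exact hf)
      (by rw [Category.assoc, ← pullback.condition]; exact hf') ?_
    obtain ⟨h1, h2, h3⟩ := toSub_spec y hy S.transpose hrely Bm em (f ≫ pullback.snd Bp.hom Bm.hom)
      (by rw [Category.assoc, ← pullback.condition]; exact hf)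
    obtain ⟨h1', h2', h3'⟩ := toSub_spec y hy S.transpose hrely Bm em (f' ≫ pullback.snd Bp.hom Bm.hom)
      (by rw [Category.assoc, ← pullback.condition]; exact hf')
    have hI' : mins (S.transpose.map (algebraMap R A)) (m - d') = Ideal.span {g} := by
      rw [Matrix.transpose_map, mins_transpose, hr, hI]
    exact (eq_sat _ _ h3 h1 hg hI').trans (eq_sat _ _ h3' h1' hg hI').symm

include hd' in
theorem points_exist (A : Type u) [CommRing A] (φ : R →+* A) (g : A) (hg : g ∈ nonZeroDivisors A)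
    (hI : (Fitt.ideal R M d).map φ = Ideal.span {g})
    (hJ : (⨆ j < d, Fitt.ideal R M j).map φ = ⊥) :
    ∃ f : Spec (CommRingCat.of A) ⟶ pullback Bp.hom Bm.hom,
      f ≫ pullback.fst Bp.hom Bm.hom ≫ Bp.hom = Spec.map (CommRingCat.ofHom φ) := by
  algebraize [φ]
  replace hI : mins (S.map (algebraMap R A)) (e - d) = Ideal.span {g} := (map_ideal x A hx S hrel d).symm.trans hI
  have hlow : ∀ j < d, (Fitt.ideal R M j).map (algebraMap R A) = ⊥ := fun j hj => by
    rw [eq_bot_iff, ← hJ]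
    exact Ideal.map_mono (le_iSup₂ (f := fun j (_ : j < d) => Fitt.ideal R M j) j hj)
  have hvan := mins_succ_eq_bot x A hx S hrel d hlow
  have hde : ∀ p : PrimeSpectrum A, d ≤ e := fun p => by
    by_contra hlt
    have h := hlow e (by omega)
    rw [GrothLib.Fitting.ideal_eq_top_of_le x hx le_rfl, Ideal.map_top] at h
    exact p.2.ne_top (top_le_iff.1 (h.le.trans bot_le))
  obtain ⟨hp, hpr⟩ := sat_quotient (S.map (algebraMap R A)) hvan hg hI
  obtain ⟨f₁, hf₁, -⟩ := exists_toSub x hx S hrel Bp ep _ (cols_le_sat (S.map (algebraMap R A)) g)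
    (fun p => by rw [hpr p]; have := hde p; omega)
  obtain ⟨hq, hqr⟩ := sat_quotient (r := e - d) (S.transpose.map (algebraMap R A))
    (by rw [Matrix.transpose_map, mins_transpose, hvan]) hg (by rw [Matrix.transpose_map, mins_transpose, hI])
  obtain ⟨f₂, hf₂, -⟩ := exists_toSub y hy S.transpose hrely Bm em _ (cols_le_sat (S.transpose.map (algebraMap R A)) g)
    (fun p => by rw [hqr p]; exact hd' (hde p))
  exact ⟨pullback.lift f₁ f₂ (hf₁.trans hf₂.symm), by rw [pullback.lift_fst_assoc, hf₁]; rfl⟩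

theorem isLocPrincipal :
    Curv2.IsLocPrincipal ((idealSheaf (Fitt.ideal R M d)).comap (pullback.fst Bp.hom Bm.hom ≫ Bp.hom)) := by
  intro z _
  obtain ⟨V, hzV, -⟩ := GrothLib.BlowUp.exists_affine_mem_le (X := pullback Bp.hom Bm.hom) (W := ⊤) (x := z) trivial
  obtain ⟨φ, hφ⟩ : ∃ φ : R →+* Γ(pullback Bp.hom Bm.hom, V.1),
      V.2.fromSpec ≫ pullback.fst Bp.hom Bm.hom ≫ Bp.hom = Spec.map (CommRingCat.ofHom φ) :=
    ⟨(Spec.preimage (V.2.fromSpec ≫ pullback.fst Bp.hom Bm.hom ≫ Bp.hom)).hom,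
      by rw [CommRingCat.ofHom_hom, Spec.map_preimage]⟩
  have hideal := ideal_comap_idealSheaf (Fitt.ideal R M d) _ V φ hφ
  algebraize [φ]
  replace hideal := hideal.trans (map_ideal x Γ(pullback Bp.hom Bm.hom, V.1) hx S hrel d)
  obtain ⟨h1, h2, h3⟩ := toSub_spec x hx S hrel Bp ep (V.2.fromSpec ≫ pullback.fst Bp.hom Bm.hom)
    (by rw [Category.assoc]; exact hφ)
  obtain ⟨h1', h2', h3'⟩ := toSub_spec y hy S.transpose hrely Bm em (V.2.fromSpec ≫ pullback.snd Bp.hom Bm.hom)
    (by rw [Category.assoc, ← pullback.condition]; exact hφ)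
  let p := (V.2.primeIdealOf ⟨z, hzV⟩).asIdeal
  let SA := S.map (algebraMap R Γ(pullback Bp.hom Bm.hom, V.1))
  obtain ⟨f, hf, ρ₀, hρ⟩ := exists_rows SA _ h3 h1 p
  obtain ⟨f', hf', γ₀, hγ⟩ := exists_rows (S.transpose.map (algebraMap R Γ(pullback Bp.hom Bm.hom, V.1))) _ h3' h1' p
  let γ₁ : Fin (e - d) → Fin m := γ₀ ∘ Fin.cast hr.symm
  have hγ' : ∀ (ρ : Fin (e - d) → Fin e) (γ : Fin (e - d) → Fin m),
      f' * (SA.submatrix ρ γ).det ∈ Ideal.span {(SA.submatrix ρ γ₁).det} := by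
    intro ρ γ
    have key : ∀ γ' : Fin (e - d) → Fin m, (SA.submatrix ρ γ').det =
        ((S.transpose.map (algebraMap R Γ(pullback Bp.hom Bm.hom, V.1))).submatrix (γ' ∘ Fin.cast hr) (ρ ∘ Fin.cast hr)).det := by
      intro γ'
      rw [← Matrix.det_transpose, Matrix.transpose_submatrix, ← Matrix.det_reindex_self (finCongr hr.symm)]
      rfl
    have e1 : γ₁ ∘ Fin.cast hr = γ₀ := funext fun i => rfl
    rw [key γ, key γ₁, e1]
    exact hγ (γ ∘ Fin.cast hr) (ρ ∘ Fin.cast hr)
  have hff : f * f' ∉ p := fun h => ((inferInstance : p.IsPrime).mem_or_mem h).elim hf hf'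
  refine ⟨(pullback Bp.hom Bm.hom).affineBasicOpen (f * f'), ?_, ?_⟩
  · show z ∈ (pullback Bp.hom Bm.hom).basicOpen (f * f')
    have : V.2.primeIdealOf ⟨z, hzV⟩ ∈ PrimeSpectrum.basicOpen (f * f') := hff
    rw [← V.2.fromSpec_preimage_basicOpen] at this
    have h2 : V.2.fromSpec.base (V.2.primeIdealOf ⟨z, hzV⟩) ∈ (pullback Bp.hom Bm.hom).basicOpen (f * f') := this
    rw [IsAffineOpen.fromSpec_primeIdealOf] at h2
    exact h2
  have hle : ((pullback Bp.hom Bm.hom).affineBasicOpen (f * f')).1 ≤ V.1 := Scheme.basicOpen_le _ _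
  let res := ((pullback Bp.hom Bm.hom).presheaf.map (homOfLE hle).op).hom
  refine ⟨res (SA.submatrix ρ₀ γ₁).det, ?_⟩
  rw [← Scheme.IdealSheafData.map_ideal _ (U := (pullback Bp.hom Bm.hom).affineBasicOpen (f * f')) (V := V) hle, hideal]
  have hu : IsUnit (res (f * f')) :=
    RingedSpace.isUnit_res_basicOpen (X := (pullback Bp.hom Bm.hom).toLocallyRingedSpace.toRingedSpace) _
  refine le_antisymm (Ideal.map_le_iff_le_comap.2 (Ideal.span_le.2 ?_))
    ((Ideal.span_singleton_le_iff_mem _).2 (Ideal.mem_map_of_mem _ (det_mem_mins _ _ _)))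
  rintro _ ⟨ρ, γ, rfl⟩
  rw [SetLike.mem_coe, Ideal.mem_comap]
  refine (Ideal.unit_mul_mem_iff_mem _ hu).1 ?_
  change res (f * f') * res (SA.submatrix ρ γ).det ∈ _
  rw [← map_mul]
  obtain ⟨a, ha⟩ := Ideal.mem_span_singleton'.1 (hρ ρ γ)
  obtain ⟨b, hb⟩ := Ideal.mem_span_singleton'.1 (hγ' ρ₀ γ)
  refine Ideal.mem_span_singleton'.2 ⟨res (a * b), ?_⟩
  rw [← map_mul]
  congr 1
  linear_combination a * hb + f' * ha

include hd' in
theorem isBlowUp (c : pullback Bp.hom Bm.hom ⟶ Spec (CommRingCat.of (R ⧸ ⨆ j < d, Fitt.ideal R M j)))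
    (hc : c ≫ Spec.map (CommRingCat.ofHom (Ideal.Quotient.mk (⨆ j < d, Fitt.ideal R M j))) =
      pullback.fst Bp.hom Bm.hom ≫ Bp.hom)
    (hC : _root_.BlowUp.IsEffCartierIdeal ((idealSheaf (Fitt.ideal R M d)).comap (pullback.fst Bp.hom Bm.hom ≫ Bp.hom))) :
    _root_.BlowUp.IsBlowUp c (idealSheaf ((Fitt.ideal R M d).map (Ideal.Quotient.mk (⨆ j < d, Fitt.ideal R M j)))) := by
  set J := ⨆ j < d, Fitt.ideal R M j
  let ι := Spec.map (CommRingCat.ofHom (Ideal.Quotient.mk J))
  have hι : idealSheaf ((Fitt.ideal R M d).map (Ideal.Quotient.mk J)) = (idealSheaf (Fitt.ideal R M d)).comap ι :=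
    (GrothLib.BlowUp.comap_idealSheaf _).symm
  haveI : Mono ι := by
    haveI : IsClosedImmersion ι := IsClosedImmersion.spec_of_surjective _ Ideal.Quotient.mk_surjective
    infer_instance
  rw [hι]
  refine ⟨by rw [← Scheme.IdealSheafData.comap_comp, hc]; exact hC, fun T g hg => ?_⟩
  rw [← Scheme.IdealSheafData.comap_comp] at hg
  obtain ⟨h, hh⟩ := exists_hom (pullback.fst Bp.hom Bm.hom ≫ Bp.hom) (Fitt.ideal R M d)
    (points_unique x hx S hrel y hy hrely Bp Bm ep em hr) J
    (points_exist x hx S hrel y hy hrely Bp Bm ep em hr hd') g hg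
  refine ⟨h, ?_, fun h' hh' => ?_⟩
  · beta_reduce
    rw [← cancel_mono ι, Category.assoc]
    exact (congrArg (h ≫ ·) hc).trans hh
  · refine hom_unique (pullback.fst Bp.hom Bm.hom ≫ Bp.hom) (Fitt.ideal R M d)
      (points_unique x hx S hrel y hy hrely Bp Bm ep em hr) (g ≫ ι) hg ?_ hh
    rw [← hh', Category.assoc, ← hc]

end GrothLib.DetRank12
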