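import Groth.Agent.Lib.DetRank12.Saturation
import Groth.Agent.Lib.Fitting.BaseChange
import Mathlib.Algebra.Category.CommAlgCat.Basic
import Mathlib.AlgebraicGeometry.Scheme
import Mathlib.CategoryTheory.Comma.Over.Basic

/-!
# Points of Grassmannians of presented modules as submodules of free modules
-/

set_option autoImplicit false
set_option linter.all false
set_option backward.isDefEq.respectTransparency false
set_option backward.isDefEq.respectTransparency.types false
universe u

open CategoryTheory AlgebraicGeometry TensorProduct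

noncomputable section

namespace GrothLib.DetRank12

variable {R : Type u} [CommRing R] {M : Type u} [AddCommGroup M] [Module R M] {e m : ℕ} (x : Fin e → M)
  (A : Type u) [CommRing A] [Algebra R A]

/-- The presentation map after base change. -/
def genMap : (Fin e → A) →ₗ[A] A ⊗[R] M := Fintype.linearCombination A fun i => (1 : A) ⊗ₜ[R] x i

variable (hx : Submodule.span R (Set.range x) = ⊤) (S : Matrix (Fin e) (Fin m) R)
  (hrel : GrothLib.Fitting.rel (R := R) x = cols S)

include hx in
theorem genMap_surjective : Function.Surjective (genMap (R := R) x A) := by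
  rw [← LinearMap.range_eq_top, genMap, Fintype.range_linearCombination, GrothLib.Fitting.span_tmul_eq_top x hx]

include hx hrel in
theorem ker_genMap : LinearMap.ker (genMap (R := R) x A) = cols (S.map (algebraMap R A)) := by
  show GrothLib.Fitting.rel (R := A) _ = _
  rw [GrothLib.Fitting.rel_baseChange_eq x hx, hrel]
  refine le_antisymm (Submodule.span_le.2 ?_) (Submodule.span_mono ?_)
  · rintro _ ⟨w, hw, rfl⟩
    have hw2 : w ∈ Submodule.span R (Set.range fun k i => S i k) := hw
    show algebraMap R A ∘ w ∈ cols _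
    clear hw
    induction hw2 using Submodule.span_induction with
    | mem w hw => obtain ⟨k, rfl⟩ := hw; exact Submodule.subset_span ⟨k, rfl⟩
    | zero =>
      rw [show (algebraMap R A ∘ (0 : Fin e → R)) = 0 from funext fun i => map_zero _]
      exact zero_mem _
    | add v w hv hw ihv ihw =>
      rw [show (algebraMap R A ∘ (v + w)) = algebraMap R A ∘ v + algebraMap R A ∘ w from funext fun i => map_add _ _ _]
      exact add_mem ihv ihw
    | smul c w hw ih =>
      rw [show (algebraMap R A ∘ (c • w)) = algebraMap R A c • (algebraMap R A ∘ w) from funext fun i => map_mul _ _ _]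
      exact Submodule.smul_mem _ _ ih
  · rintro _ ⟨k, rfl⟩
    exact ⟨fun i => S i k, Submodule.subset_span ⟨k, rfl⟩, rfl⟩

include hx hrel in
theorem map_ideal (j : ℕ) :
    (Fitt.ideal R M j).map (algebraMap R A) = mins (S.map (algebraMap R A)) (e - j) := by
  rw [GrothLib.Fitting.ideal_eq_minors x hx, hrel, minors_cols, mins, Ideal.map_span]
  refine congrArg Ideal.span (Set.ext fun a => ⟨?_, ?_⟩)
  · rintro ⟨_, ⟨ρ, γ, rfl⟩, rfl⟩
    exact ⟨ρ, γ, by rw [RingHom.map_det, RingHom.mapMatrix_apply, Matrix.submatrix_map]⟩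
  · rintro ⟨ρ, γ, rfl⟩
    exact ⟨_, ⟨ρ, γ, rfl⟩, by rw [RingHom.map_det, RingHom.mapMatrix_apply, Matrix.submatrix_map]⟩

include hx hrel in
theorem mins_succ_eq_bot (d : ℕ) (h : ∀ j < d, (Fitt.ideal R M j).map (algebraMap R A) = ⊥) :
    mins (S.map (algebraMap R A)) (e - d + 1) = ⊥ := by
  rcases Nat.eq_zero_or_pos d with h0 | h0
  · rw [eq_bot_iff, mins, Ideal.span_le]
    rintro _ ⟨ρ, γ, rfl⟩
    obtain ⟨a, b, hab, hne⟩ : ∃ a b, ρ a = ρ b ∧ a ≠ b :=
      Function.not_injective_iff.1 fun hg => by
        have := Fintype.card_le_of_injective ρ hg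
        simp at this
        omega
    exact Ideal.mem_bot.2 (Matrix.det_zero_of_row_eq hne (funext fun l => by simp [hab]))
  rcases le_or_gt d e with hle | hgt
  · have h1 := h (d - 1) (by omega)
    rw [map_ideal x A hx S hrel, show e - (d - 1) = e - d + 1 by omega] at h1
    exact h1
  · have h1 := h e hgt
    rw [GrothLib.Fitting.ideal_eq_top_of_le x hx le_rfl, Ideal.map_top] at h1
    rw [eq_bot_iff, ← h1]
    exact le_top

variable {A} {d : ℕ} (B : Over (Spec (CommRingCat.of R)))
  (ep : ∀ A : CommAlgCat.{u} R, (Over.mk (Spec.map (CommRingCat.ofHom (algebraMap R A))) ⟶ B) ≃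
    (Module.Grassmannian.functor (R := R) (M := M) d).obj A)

/-- The submodule of a point. -/
def toSub (f : Spec (CommRingCat.of A) ⟶ B.left)
    (hf : f ≫ B.hom = Spec.map (CommRingCat.ofHom (algebraMap R A))) : Submodule A (Fin e → A) :=
  ((ep (CommAlgCat.of R A) (Over.homMk f hf)) : Module.Grassmannian A (A ⊗[R] M) d).toSubmodule.comap (genMap (R := R) x A)

include hx hrel in
theorem toSub_spec (f : Spec (CommRingCat.of A) ⟶ B.left)
    (hf : f ≫ B.hom = Spec.map (CommRingCat.ofHom (algebraMap R A))) :
    cols (S.map (algebraMap R A)) ≤ toSub x B ep f hf ∧ Module.Projective A ((Fin e → A) ⧸ toSub x B ep f hf) ∧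
      ∀ p, Module.rankAtStalk (R := A) ((Fin e → A) ⧸ toSub x B ep f hf) p = d := by
  let G : Module.Grassmannian A (A ⊗[R] M) d := ep (CommAlgCat.of R A) (Over.homMk f hf)
  haveI := G.projective_quotient
  haveI := G.finite_quotient
  have hk : LinearMap.ker (G.toSubmodule.mkQ.comp (genMap (R := R) x A)) = toSub x B ep f hf := by
    rw [LinearMap.ker_comp, Submodule.ker_mkQ]
    rfl
  let eq : ((Fin e → A) ⧸ toSub x B ep f hf) ≃ₗ[A] (A ⊗[R] M) ⧸ G.toSubmodule :=
    (Submodule.quotEquivOfEq _ _ hk.symm).trans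
      ((G.toSubmodule.mkQ.comp (genMap (R := R) x A)).quotKerEquivOfSurjective
        (G.toSubmodule.mkQ_surjective.comp (genMap_surjective x A hx)))
  refine ⟨?_, Module.Projective.of_equiv eq.symm, fun p => ?_⟩
  · rw [← ker_genMap x A hx S hrel, ← hk, LinearMap.ker_comp]
    exact fun v hv => by simp [LinearMap.mem_ker.1 hv]
  · rw [Module.rankAtStalk_eq_of_equiv eq]
    exact G.rankAtStalk_eq p

include hx in
theorem toSub_injective {f f' : Spec (CommRingCat.of A) ⟶ B.left}
    (hf : f ≫ B.hom = Spec.map (CommRingCat.ofHom (algebraMap R A)))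
    (hf' : f' ≫ B.hom = Spec.map (CommRingCat.ofHom (algebraMap R A)))
    (h : toSub x B ep f hf = toSub x B ep f' hf') : f = f' := by
  have h1 := Submodule.comap_injective_of_surjective (genMap_surjective x A hx) h
  have h2 := (ep (CommAlgCat.of R A)).injective (Module.Grassmannian.ext h1)
  exact congrArg CommaMorphism.left h2

include hx hrel in
theorem exists_toSub (N : Submodule A (Fin e → A)) (hN : cols (S.map (algebraMap R A)) ≤ N)
    [Module.Projective A ((Fin e → A) ⧸ N)] (hd : ∀ p, Module.rankAtStalk (R := A) ((Fin e → A) ⧸ N) p = d) :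
    ∃ (f : Spec (CommRingCat.of A) ⟶ B.left) (hf : f ≫ B.hom = Spec.map (CommRingCat.ofHom (algebraMap R A))),
      toSub x B ep f hf = N := by
  let q := genMap (R := R) x A
  have hcm : (N.map q).comap q = N := by
    rw [Submodule.comap_map_eq, ker_genMap x A hx S hrel, sup_eq_left]
    exact hN
  have hk : LinearMap.ker ((N.map q).mkQ.comp q) = N := by rw [LinearMap.ker_comp, Submodule.ker_mkQ, hcm]
  let eq : ((Fin e → A) ⧸ N) ≃ₗ[A] (A ⊗[R] M) ⧸ N.map q :=
    (Submodule.quotEquivOfEq _ _ hk.symm).trans
      (((N.map q).mkQ.comp q).quotKerEquivOfSurjective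
        ((N.map q).mkQ_surjective.comp (genMap_surjective x A hx)))
  let G : Module.Grassmannian A (A ⊗[R] M) d :=
    ⟨N.map q, Module.Finite.equiv eq, Module.Projective.of_equiv eq, fun p => by
      rw [← Module.rankAtStalk_eq_of_equiv eq]; exact hd p⟩
  refine ⟨((ep (CommAlgCat.of R A)).symm G).left, Over.w ((ep (CommAlgCat.of R A)).symm G), ?_⟩
  rw [toSub, show (Over.homMk ((ep (CommAlgCat.of R A)).symm G).left (Over.w ((ep (CommAlgCat.of R A)).symm G)) :
      Over.mk (Spec.map (CommRingCat.ofHom (algebraMap R A))) ⟶ B) = (ep (CommAlgCat.of R A)).symm G from rfl,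
    Equiv.apply_symm_apply]
  exact hcm

end GrothLib.DetRank12
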