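import Groth.Agent.Lib.DetRank12.Basic

/-!
# Quotients of free modules at an invertible ideal of minors
-/

set_option autoImplicit false
set_option linter.all false
universe u

namespace GrothLib.DetRank12

open Function Matrix TensorProduct

variable {A : Type u} [CommRing A] {e m : ℕ}

/-- Vectors that `g` takes into the span of the columns. -/
def sat (S : Matrix (Fin e) (Fin m) A) (g : A) : Submodule A (Fin e → A) :=
  (cols S).comap (g • LinearMap.id)

theorem cols_le_sat (S : Matrix (Fin e) (Fin m) A) (g : A) : cols S ≤ sat S g := fun v hv => by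
  simpa [sat] using Submodule.smul_mem _ g hv

theorem sat_quotient (S : Matrix (Fin e) (Fin m) A) {r : ℕ} (hvan : mins S (r + 1) = ⊥) {g : A}
    (hg : g ∈ nonZeroDivisors A) (hI : mins S r = Ideal.span {g}) :
    Module.Projective A ((Fin e → A) ⧸ sat S g) ∧
      ∀ p, Module.rankAtStalk (R := A) ((Fin e → A) ⧸ sat S g) p = e - r := by
  classical
  let T := (Fin r → Fin e) × (Fin r → Fin m)
  have hcan : ∀ {a b : A}, g * a = g * b → a = b := fun h => (mul_cancel_left_mem_nonZeroDivisors hg).1 h
  let μ : T → A := fun t => (S.submatrix t.1 t.2).det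
  have hμmem : ∀ t, μ t ∈ Ideal.span {g} := fun t => hI ▸ det_mem_mins S t.1 t.2
  choose u hu using fun t => Ideal.mem_span_singleton'.1 (hμmem t)
  obtain ⟨c, hc⟩ : ∃ c : T → A, ∑ t, c t * μ t = g := by
    refine Ideal.mem_span_range_iff_exists_fun.1 ?_
    have : g ∈ mins S r := hI ▸ Ideal.mem_span_singleton_self g
    refine Ideal.span_mono ?_ this
    rintro _ ⟨ρ, γ, rfl⟩
    exact ⟨(ρ, γ), rfl⟩
  have hone : ∑ t, c t * u t = 1 := hcan (by
    rw [mul_one, Finset.mul_sum]
    refine (Finset.sum_congr rfl fun t _ => ?_).trans hc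
    rw [← hu t]; ring)
  have hmem : ∀ (t : T) (i : Fin e) (a : Fin r), (-((-1) ^ (a.succ : ℕ) * (Matrix.of fun c b =>
      S ((Fin.cons i t.1 : Fin (r + 1) → Fin e) (a.succ.succAbove c)) (t.2 b)).det) : A) ∈ Ideal.span {g} := by
    intro t i a
    rw [← hI]
    exact neg_mem (Ideal.mul_mem_left _ _ (det_mem_mins S (fun c => (Fin.cons i t.1 : Fin (r + 1) → Fin e) (a.succ.succAbove c)) t.2))
  choose U hU using fun t i a => Ideal.mem_span_singleton'.1 (hmem t i a)
  let z : T → Fin r → Fin e → A := fun t b i => S i (t.2 b)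
  have hzmem : ∀ t b, z t b ∈ cols S := fun t b => Submodule.subset_span ⟨t.2 b, rfl⟩
  have hN : GrothLib.Fitting.minors (cols S) (r + 1) = ⊥ := by rw [minors_cols, hvan]
  let φ : T → (Fin r → A) →ₗ[A] (Fin e → A) := fun t => (Matrix.of fun i a => U t i a).mulVecLin
  have hF1 : ∀ t x a₀ i, (bordM (z t) x t.1 a₀ i).det = a₀ * μ t - g * φ t x i := by
    intro t x a₀ i
    rw [bord_col, sub_eq_add_neg, show g * φ t x i = ∑ a, g * (U t i a * x a) from by
      simp [φ, Matrix.mulVec, dotProduct, Finset.mul_sum], ← Finset.sum_neg_distrib]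
    refine congr_arg₂ (· + ·) rfl (Finset.sum_congr rfl fun a _ => ?_)
    linear_combination x a * hU t i a
  have hF2 : ∀ t x, g • φ t x ∈ cols S := by
    intro t x
    obtain ⟨C, hC⟩ := exists_bord_row (z t) x t.1
    rw [show g • φ t x = -∑ b, C b • z t b from ?_]
    · exact neg_mem (Submodule.sum_mem _ fun b _ => Submodule.smul_mem _ _ (hzmem t b))
    funext i
    have h := (hF1 t x 0 i).symm.trans (hC 0 i)
    simp only [zero_mul, zero_sub, zero_add] at h
    rw [Pi.smul_apply, smul_eq_mul, Pi.neg_apply, ← h, neg_neg]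
  have hF3 : ∀ t x a, φ t x (t.1 a) = u t * x a := by
    intro t x a
    apply hcan
    have h := hF1 t x (x a) (t.1 a)
    rw [Matrix.det_zero_of_row_eq (M := bordM (z t) x t.1 (x a) (t.1 a)) (Fin.succ_ne_zero a).symm
      (funext fun b => Fin.cases (by simp [bordM]) (fun b => by simp [bordM]) b), ← hu t] at h
    linear_combination h
  have hF4 : ∀ t v, v ∈ sat S g → φ t (fun a => v (t.1 a)) = u t • v := by
    intro t v hv
    have hgv : g • v ∈ cols S := by simpa [sat] using hv
    funext i
    apply hcan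
    apply hcan
    have h := hF1 t (fun a => (g • v) (t.1 a)) ((g • v) i) i
    rw [bordM_det_eq_zero hN (hzmem t) hgv, ← hu t,
      show (fun a => (g • v) (t.1 a)) = g • fun a => v (t.1 a) from rfl, map_smul, Pi.smul_apply, Pi.smul_apply,
      smul_eq_mul, smul_eq_mul] at h
    rw [Pi.smul_apply, smul_eq_mul]
    linear_combination h
  have hsat : ∀ t x, φ t x ∈ sat S g := fun t x => by simpa [sat] using hF2 t x
  let π : (Fin e → A) →ₗ[A] sat S g := (∑ t, c t • (φ t).comp (LinearMap.funLeft A A t.1)).codRestrict _ fun v => by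
    simp only [LinearMap.sum_apply, LinearMap.smul_apply, LinearMap.comp_apply]
    exact Submodule.sum_mem _ fun t _ => Submodule.smul_mem _ _ (hsat t _)
  have hπ : π.comp (sat S g).subtype = LinearMap.id := by
    refine LinearMap.ext fun v => Subtype.ext ?_
    show (∑ t, c t • (φ t).comp (LinearMap.funLeft A A t.1)) (v : Fin e → A) = v
    simp only [LinearMap.sum_apply, LinearMap.smul_apply, LinearMap.comp_apply]
    rw [show ∑ t, c t • φ t (LinearMap.funLeft A A t.1 v.1) = ∑ t, (c t * u t) • v.1 from
      Finset.sum_congr rfl fun t _ => by rw [mul_smul]; exact congrArg (c t • ·) (hF4 t v.1 v.2),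
      ← Finset.sum_smul, hone, one_smul]
  haveI : Module.Projective A (sat S g) := Module.Projective.of_split (sat S g).subtype π hπ
  haveI : Module.Finite A (sat S g) := Module.Finite.of_surjective π fun v => ⟨v.1, LinearMap.congr_fun hπ v⟩
  let s : ((Fin e → A) ⧸ sat S g) →ₗ[A] Fin e → A :=
    (sat S g).liftQ (LinearMap.id - (sat S g).subtype.comp π) fun v hv => by
      have := LinearMap.congr_fun hπ ⟨v, hv⟩
      simp only [LinearMap.comp_apply, Submodule.subtype_apply, LinearMap.id_apply] at this
      simp [LinearMap.mem_ker, this]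
  have hs : (sat S g).mkQ.comp s = LinearMap.id := by
    refine Submodule.linearMap_qext _ (LinearMap.ext fun v => ?_)
    show (sat S g).mkQ (v - (π v : Fin e → A)) = (sat S g).mkQ v
    rw [map_sub, show (sat S g).mkQ (π v : Fin e → A) = 0 from (Submodule.Quotient.mk_eq_zero _).2 (π v).2, sub_zero]
  haveI : Module.Projective A ((Fin e → A) ⧸ sat S g) := Module.Projective.of_split s (sat S g).mkQ hs
  refine ⟨inferInstance, fun p => ?_⟩
  haveI : Nontrivial A := ⟨⟨0, 1, fun h => p.2.ne_top ((Ideal.eq_top_iff_one _).2 (h ▸ zero_mem _))⟩⟩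
  have hN' : Module.rankAtStalk (R := A) (sat S g) p = r := by
    obtain ⟨t, ht⟩ : ∃ t, u t ∉ p.asIdeal := by
      by_contra h
      push Not at h
      exact p.2.ne_top ((Ideal.eq_top_iff_one _).2 (hone ▸ Ideal.sum_mem _ fun t _ => Ideal.mul_mem_left _ _ (h t)))
    let i : sat S g →ₗ[A] Fin r → A := (LinearMap.funLeft A A t.1).comp (sat S g).subtype
    let j : (Fin r → A) →ₗ[A] sat S g := (φ t).codRestrict _ (hsat t)
    have hij : i.comp j = u t • LinearMap.id := LinearMap.ext fun x => funext fun a => hF3 t x a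
    have hji : j.comp i = u t • LinearMap.id := LinearMap.ext fun v => Subtype.ext (hF4 t v.1 v.2)
    rw [Module.rankAtStalk_eq]
    let K := p.asIdeal.ResidueField
    have hu0 : algebraMap A K (u t) ≠ 0 := fun h => ht (Ideal.algebraMap_residueField_eq_zero.1 h)
    let eqv : (K ⊗[A] sat S g) ≃ₗ[K] (K ⊗[A] (Fin r → A)) :=
      LinearEquiv.ofLinear (i.baseChange K) ((algebraMap A K (u t))⁻¹ • j.baseChange K)
        (by rw [LinearMap.comp_smul, ← LinearMap.baseChange_comp, hij, LinearMap.baseChange_smul,
              LinearMap.baseChange_id, ← algebraMap_smul K (u t), smul_smul, inv_mul_cancel₀ hu0, one_smul])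
        (by rw [LinearMap.smul_comp, ← LinearMap.baseChange_comp, hji, LinearMap.baseChange_smul,
              LinearMap.baseChange_id, ← algebraMap_smul K (u t), smul_smul, inv_mul_cancel₀ hu0, one_smul])
    rw [show Module.finrank K (p.asIdeal.Fiber (sat S g)) = Module.finrank K (K ⊗[A] (Fin r → A)) from eqv.finrank_eq,
      Module.finrank_baseChange, Module.finrank_fin_fun]
  let pq := π.prod (sat S g).mkQ
  have hbij : Function.Bijective pq := by
    constructor
    · rw [injective_iff_map_eq_zero]
      intro v hv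
      have h2 : v ∈ sat S g := (Submodule.Quotient.mk_eq_zero _).1 (congrArg Prod.snd hv)
      have := LinearMap.congr_fun hπ ⟨v, h2⟩
      exact congrArg Subtype.val (this.symm.trans (congrArg Prod.fst hv))
    · rintro ⟨y, q⟩
      have hsq := LinearMap.congr_fun hs q
      obtain ⟨v, rfl⟩ := Submodule.mkQ_surjective _ q
      refine ⟨(y : Fin e → A) + (v - (π v : Fin e → A)), Prod.ext ?_ ?_⟩
      · show π _ = y
        have h1 := LinearMap.congr_fun hπ y
        have h2 := LinearMap.congr_fun hπ (π v)
        simp only [LinearMap.comp_apply, Submodule.subtype_apply, LinearMap.id_apply] at h1 h2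
        rw [map_add, map_sub, h1, h2, sub_self, add_zero]
      · show (sat S g).mkQ _ = _
        rw [map_add, map_sub, show (sat S g).mkQ (π v : Fin e → A) = 0 from (Submodule.Quotient.mk_eq_zero _).2 (π v).2,
          show (sat S g).mkQ (y : Fin e → A) = 0 from (Submodule.Quotient.mk_eq_zero _).2 y.2, sub_zero, zero_add]
  have h := congrFun (Module.rankAtStalk_eq_of_equiv (R := A) (LinearEquiv.ofBijective pq hbij)) p
  rw [Module.rankAtStalk_prod, Pi.add_apply, hN', Module.rankAtStalk_eq_finrank_of_free, Pi.natCast_apply,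
    Module.finrank_fin_fun] at h
  simp only [Nat.cast_id] at h
  omega

variable (S : Matrix (Fin e) (Fin m) A) {d : ℕ} (N : Submodule A (Fin e → A))
  [Module.Projective A ((Fin e → A) ⧸ N)] (hd : ∀ p, Module.rankAtStalk (R := A) ((Fin e → A) ⧸ N) p = d)
  (hS : cols S ≤ N)

include hd hS

/-- A locally free quotient of the cokernel is the saturation of the image. -/
theorem eq_sat {g : A} (hg : g ∈ nonZeroDivisors A) (hI : mins S (e - d) = Ideal.span {g}) : N = sat S g := by
  classical
  refine le_antisymm (fun v hv => ?_) fun v hv => ?_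
  · have hall : ∀ x ∈ mins S (e - d), x • v ∈ cols S := by
      intro x hx
      induction hx using Submodule.span_induction with
      | mem x hx =>
        obtain ⟨ρ, γ, rfl⟩ := hx
        refine Submodule.span_le.2 ?_ (det_smul_mem_span (minors_succ_eq_bot N hd)
          (z := fun b i => S i (γ b)) (fun b => hS (Submodule.subset_span ⟨γ b, rfl⟩)) ρ hv)
        rintro _ ⟨b, rfl⟩
        exact Submodule.subset_span ⟨γ b, rfl⟩
      | zero => rw [zero_smul]; exact zero_mem _
      | add x y _ _ hx hy => rw [add_smul]; exact add_mem hx hy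
      | smul a x _ hx => rw [smul_eq_mul, mul_smul]; exact Submodule.smul_mem _ _ hx
    simpa [sat] using hall g (hI ▸ Ideal.mem_span_singleton_self g)
  · have hgv : g • v ∈ N := hS (by simpa [sat] using hv)
    obtain ⟨s, hs⟩ := Module.projective_lifting_property N.mkQ LinearMap.id N.mkQ_surjective
    have h0 : g • N.mkQ v = 0 := by rw [← map_smul]; exact (Submodule.Quotient.mk_eq_zero _).2 hgv
    have h1 : g • s (N.mkQ v) = 0 := by rw [← map_smul, h0, map_zero]
    have h2 : s (N.mkQ v) = 0 := funext fun i => by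
      have := congrFun h1 i
      rw [Pi.smul_apply, smul_eq_mul, Pi.zero_apply] at this
      exact (mul_left_mem_nonZeroDivisors_eq_zero_iff hg).1 this
    rw [← Submodule.Quotient.mk_eq_zero N]
    have h3 := LinearMap.congr_fun hs (N.mkQ v)
    rw [LinearMap.comp_apply, h2, map_zero] at h3
    exact h3.symm

/-- Near a prime all minors are multiples of the minors in fixed rows. -/
theorem exists_rows (p : Ideal A) [p.IsPrime] :
    ∃ f ∉ p, ∃ ρ₀ : Fin (e - d) → Fin e, ∀ (ρ : Fin (e - d) → Fin e) (γ : Fin (e - d) → Fin m),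
      f * (S.submatrix ρ γ).det ∈ Ideal.span {(S.submatrix ρ₀ γ).det} := by
  classical
  obtain ⟨z, ρ₀, hz, hf⟩ : ∃ (z : Fin (e - d) → Fin e → A) (ρ₀ : Fin (e - d) → Fin e), (∀ b, z b ∈ N) ∧
      (Matrix.of fun a b => z b (ρ₀ a)).det ∉ p := by
    by_contra h
    push Not at h
    refine (inferInstance : p.IsPrime).ne_top (top_le_iff.1 ?_)
    rw [← minors_eq_top N hd, GrothLib.Fitting.minors_le_iff]
    exact fun z ρ hz => h z ρ hz
  set f := (Matrix.of fun a b => z b (ρ₀ a)).det with hfdef
  choose C hC using fun k : Fin m => (Submodule.mem_span_range_iff_exists_fun A).1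
    (det_smul_mem_span (minors_succ_eq_bot N hd) hz ρ₀ (hS (Submodule.subset_span ⟨k, rfl⟩) : (fun i => S i k) ∈ N))
  refine ⟨f ^ (e - d + 1), fun h => hf ((inferInstance : p.IsPrime).mem_of_pow_mem _ h), ρ₀, fun ρ γ => ?_⟩
  have hkey : ∀ ρ' : Fin (e - d) → Fin e, f ^ (e - d) * (S.submatrix ρ' γ).det =
      (Matrix.of fun a b => z b (ρ' a)).det * (Matrix.of fun b c => C (γ c) b).det := by
    intro ρ'
    have h1 := Matrix.det_smul (S.submatrix ρ' γ) f
    rw [Fintype.card_fin] at h1
    rw [← h1, ← Matrix.det_mul]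
    congr 1
    ext a c
    have h2 := congrFun (hC (γ c)) (ρ' a)
    rw [Finset.sum_apply] at h2
    simpa [Matrix.mul_apply, mul_comm, hfdef] using h2.symm
  refine Ideal.mem_span_singleton'.2 ⟨(Matrix.of fun a b => z b (ρ a)).det * f ^ (e - d), ?_⟩
  have h0 := hkey ρ₀
  rw [← hfdef] at h0
  linear_combination (Matrix.of fun a b => z b (ρ a)).det * h0 - f * hkey ρ

omit hd hS

end GrothLib.DetRank12
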